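import Groth.Prelude.Def_FGA
import Groth.Prelude.Def_Pic
import Groth.Agent.CurveBC.Coh
import Groth.Agent.PicClLib.Basic
import Groth.Agent.H23.PicMul
import Groth.Agent.Lib.InvEnd

/-! The condition of degree zero on the fibres, tested at field valued points. -/

noncomputable section

set_option linter.style.haveILetI false
set_option linter.unusedSectionVars false
set_option backward.isDefEq.respectTransparency false
set_option backward.isDefEq.respectTransparency.types false

universe u

open CategoryTheory CategoryTheory.Limits AlgebraicGeometry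

namespace Groth.Agent.JacTangent

theorem eulerCharLE_iso {K : Type u} [Field K] {Z : Scheme.{u}} [Z.Over (Spec (CommRingCat.of K))]
    {M N : Z.Modules} (e : M ≅ N) (d : ℕ) : FGA.eulerCharLE K Z M d = FGA.eulerCharLE K Z N d :=
  Finset.sum_congr rfl fun i _ => by rw [(CurveCohLib.hhEquiv (k := K) e i).finrank_eq]

theorem eulerCharLE_baseChange {K K' : Type u} [Field K] [Field K'] [Algebra K K'] {Z Z' : Scheme.{u}}
    [Z.Over (Spec (CommRingCat.of K))] [Z'.Over (Spec (CommRingCat.of K'))] [CompactSpace Z] [QuasiSeparatedSpace Z]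
    (h : Z' ⟶ Z) (hpb : IsPullback h (Z' ↘ Spec (CommRingCat.of K')) (Z ↘ Spec (CommRingCat.of K))
      (Spec.map (CommRingCat.ofHom (algebraMap K K')))) (M : Z.Modules) (hM : Coh.IsQCoh M) (d : ℕ) :
    FGA.eulerCharLE K' Z' ((Scheme.Modules.pullback h).obj M) d = FGA.eulerCharLE K Z M d :=
  Finset.sum_congr rfl fun i _ => by rw [CurveBC.finrank_hh K K' h hpb M hM i]

variable {X S : Scheme.{u}} (f : X ⟶ S) [QuasiCompact f] [QuasiSeparated f]

/-- A field valued point of the base as an object over it. -/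
abbrev fpt {K : Type u} [Field K] (r : Spec (CommRingCat.of K) ⟶ S) : Over S := Over.mk r

/-- The fibre at a field valued point of the base, over the field. -/
abbrev fib {K : Type u} [Field K] (r : Spec (CommRingCat.of K) ⟶ S) : Over (Spec (CommRingCat.of K)) :=
  Over.mk (pullback.snd f r)

/-- Degree zero on one fibre. -/
def Deg0 {K : Type u} [Field K] (r : Spec (CommRingCat.of K) ⟶ S) (M : (PicF.XT f (fpt r)).Modules) : Prop :=
  FGA.eulerCharLE K (fib f r).left M 1 = FGA.eulerCharLE K (fib f r).left (Coh.structureModule (fib f r).left) 1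

theorem deg0_congr {K : Type u} [Field K] {r : Spec (CommRingCat.of K) ⟶ S} {M N : (PicF.XT f (fpt r)).Modules}
    (e : M ≅ N) : Deg0 f r M ↔ Deg0 f r N := by
  unfold Deg0
  rw [eulerCharLE_iso (Z := (fib f r).left) e]

theorem eulerCharLE_unit {K K' : Type u} [Field K] [Field K'] [Algebra K K'] {Z Z' : Scheme.{u}}
    [Z.Over (Spec (CommRingCat.of K))] [Z'.Over (Spec (CommRingCat.of K'))] [CompactSpace Z] [QuasiSeparatedSpace Z]
    (h : Z' ⟶ Z) (hpb : IsPullback h (Z' ↘ Spec (CommRingCat.of K')) (Z ↘ Spec (CommRingCat.of K))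
      (Spec.map (CommRingCat.ofHom (algebraMap K K')))) (d : ℕ) :
    FGA.eulerCharLE K' Z' (Coh.structureModule Z') d = FGA.eulerCharLE K Z (Coh.structureModule Z) d :=
  (eulerCharLE_iso (CurveBC.unitIso h).symm d).trans
    (eulerCharLE_baseChange h hpb _ (PnCoh.isQCoh_structureModule Z) d)

theorem compact_fib {K : Type u} [Field K] (r : Spec (CommRingCat.of K) ⟶ S) :
    CompactSpace (fib f r).left ∧ QuasiSeparatedSpace (fib f r).left :=
  ⟨QuasiCompact.compactSpace_of_compactSpace (pullback.snd f r),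
    quasiSeparatedSpace_of_quasiSeparated (pullback.snd f r)⟩

/-- The morphism of field valued points of a field extension. -/
abbrev fmap {K K' : Type u} [Field K] [Field K'] (φ : K →+* K') (r : Spec (CommRingCat.of K) ⟶ S)
    (r' : Spec (CommRingCat.of K') ⟶ S) (hr : Spec.map (CommRingCat.ofHom φ) ≫ r = r') : fpt r' ⟶ fpt r :=
  Over.homMk (Spec.map (CommRingCat.ofHom φ)) hr

theorem isPullback_fmap {K K' : Type u} [Field K] [Field K'] (φ : K →+* K') (r : Spec (CommRingCat.of K) ⟶ S)
    (r' : Spec (CommRingCat.of K') ⟶ S) (hr : Spec.map (CommRingCat.ofHom φ) ≫ r = r') :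
    IsPullback (PicF.XTmap f (fmap φ r r' hr)) (pullback.snd f r') (pullback.snd f r)
      (Spec.map (CommRingCat.ofHom φ)) := by
  refine IsPullback.of_right ?_ (pullback.lift_snd _ _ _) (IsPullback.of_hasPullback f r)
  have h1 : PicF.XTmap f (fmap φ r r' hr) ≫ pullback.fst f r = pullback.fst f r' := by
    simp [PicF.XTmap]
  rw [h1, hr]
  exact IsPullback.of_hasPullback f r'

theorem deg0_extend {K K' : Type u} [Field K] [Field K'] (φ : K →+* K') (r : Spec (CommRingCat.of K) ⟶ S)
    (r' : Spec (CommRingCat.of K') ⟶ S) (hr : Spec.map (CommRingCat.ofHom φ) ≫ r = r')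
    {M : (PicF.XT f (fpt r)).Modules} (hM : PicF.IsInvertible M) :
    Deg0 f r' ((Scheme.Modules.pullback (PicF.XTmap f (fmap φ r r' hr))).obj M) ↔ Deg0 f r M := by
  letI := φ.toAlgebra
  haveI := (compact_fib f r).1
  haveI := (compact_fib f r).2
  have hq : Coh.IsQCoh M :=
    QCoh.isQCoh_of_isFinLocFree (fun y => let ⟨W, hy, he⟩ := InvEnd.isFinLocFreeOfRank_one hM y; ⟨W, 1, hy, he⟩)
  have hpb := isPullback_fmap f φ r r' hr
  unfold Deg0
  rw [show FGA.eulerCharLE K' (fib f r').left ((Scheme.Modules.pullback (PicF.XTmap f (fmap φ r r' hr))).obj M) 1 =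
      FGA.eulerCharLE K (fib f r).left M 1 from
    eulerCharLE_baseChange (K := K) (K' := K') (Z := (fib f r).left) (Z' := (fib f r').left) _ hpb M hq 1,
    eulerCharLE_unit (K := K) (K' := K') (Z := (fib f r).left) (Z' := (fib f r').left) _ hpb 1]

/-- A field valued point of an object over the base. -/
abbrev tpt (T : Over S) {K : Type u} [Field K] (s : Spec (CommRingCat.of K) ⟶ T.left) : fpt (s ≫ T.hom) ⟶ T :=
  Over.homMk s rfl

/-- The fibre at a point, compared with the base change. -/
theorem deg_iff_deg0 (T : Over S) (t : T.left) {L : (PicF.XT f T).Modules} (hL : PicF.IsInvertible L) :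
    FGA.eulerCharLE (T.left.residueField t) (FGA.fibreAt f T t).left (FGA.restrFibre f T t L) 1 =
        FGA.eulerCharLE (T.left.residueField t) (FGA.fibreAt f T t).left (Coh.structureModule _) 1 ↔
      Deg0 f (K := T.left.residueField t) (T.left.fromSpecResidueField t ≫ T.hom)
        ((Scheme.Modules.pullback (PicF.XTmap f (tpt T (T.left.fromSpecResidueField t)))).obj L) := by
  let s := T.left.fromSpecResidueField t
  let r : Spec (CommRingCat.of (T.left.residueField t)) ⟶ S := s ≫ T.hom
  haveI := (compact_fib f r).1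
  haveI := (compact_fib f r).2
  let e : pullback (pullback.snd f T.hom) s ≅ pullback f (s ≫ T.hom) := pullbackLeftPullbackSndIso f T.hom s
  have he : e.hom ≫ PicF.XTmap f (tpt T s) = pullback.fst (pullback.snd f T.hom) s := by
    refine pullback.hom_ext ?_ ?_
    · simp [e, PicF.XTmap, pullbackLeftPullbackSndIso_hom_fst]
    · simp [e, PicF.XTmap, pullbackLeftPullbackSndIso_hom_snd_assoc, pullback.condition]
  have hM := PicClLib.isInvertible_pullback (PicF.XTmap f (tpt T s)) hL
  have hq : Coh.IsQCoh ((Scheme.Modules.pullback (PicF.XTmap f (tpt T s))).obj L) :=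
    QCoh.isQCoh_of_isFinLocFree (fun y => let ⟨W, hy, he⟩ := InvEnd.isFinLocFreeOfRank_one hM y; ⟨W, 1, hy, he⟩)
  have hpb : IsPullback e.hom (pullback.snd (pullback.snd f T.hom) s) (pullback.snd f (s ≫ T.hom))
      (Spec.map (CommRingCat.ofHom (algebraMap (T.left.residueField t) (T.left.residueField t)))) := by
    have hid : Spec.map (CommRingCat.ofHom (algebraMap (T.left.residueField t) (T.left.residueField t))) =
        𝟙 (Spec (CommRingCat.of (T.left.residueField t))) := Spec.map_id _
    rw [hid]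
    exact IsPullback.of_horiz_isIso ⟨(pullbackLeftPullbackSndIso_hom_snd f T.hom s).trans (Category.comp_id _).symm⟩
  have h1 := eulerCharLE_baseChange (K := T.left.residueField t) (K' := T.left.residueField t)
    (Z := (fib f r).left) (Z' := (FGA.fibreAt f T t).left) e.hom hpb _ hq 1
  have h2 := eulerCharLE_unit (K := T.left.residueField t) (K' := T.left.residueField t)
    (Z := (fib f r).left) (Z' := (FGA.fibreAt f T t).left) e.hom hpb 1
  have h3 := eulerCharLE_iso (K := T.left.residueField t) (Z := (FGA.fibreAt f T t).left)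
    ((Scheme.Modules.pullbackComp e.hom (PicF.XTmap f (tpt T s))).app L ≪≫
      (Scheme.Modules.pullbackCongr he).app L) 1
  unfold Deg0 FGA.restrFibre
  rw [← h1, ← h2]
  exact ⟨fun h => h3.trans h, fun h => h3.symm.trans h⟩

/-- The field valued points test the degree. -/
theorem deg0_point (T : Over S) {L : (PicF.XT f T).Modules} (hL : PicF.IsInvertible L) {K : Type u} [Field K]
    (s : Spec (CommRingCat.of K) ⟶ T.left) :
    Deg0 f (s ≫ T.hom) ((Scheme.Modules.pullback (PicF.XTmap f (tpt T s))).obj L) ↔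
      FGA.eulerCharLE (T.left.residueField (s (IsLocalRing.closedPoint K)))
          (FGA.fibreAt f T (s (IsLocalRing.closedPoint K))).left (FGA.restrFibre f T _ L) 1 =
        FGA.eulerCharLE (T.left.residueField (s (IsLocalRing.closedPoint K)))
          (FGA.fibreAt f T (s (IsLocalRing.closedPoint K))).left (Coh.structureModule _) 1 := by
  rw [deg_iff_deg0 f T _ hL]
  obtain ⟨⟨t, φ⟩, rfl⟩ := (Scheme.SpecToEquivOfField K T.left).symm.surjective s
  have ht : (Spec.map φ ≫ T.left.fromSpecResidueField t) (IsLocalRing.closedPoint K) = t := by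
    have h : (Spec.map φ ≫ T.left.fromSpecResidueField t) (IsLocalRing.closedPoint K) ∈
        Set.range (T.left.fromSpecResidueField t) := ⟨_, rfl⟩
    rwa [Scheme.range_fromSpecResidueField, Set.mem_singleton_iff] at h
  show Deg0 f ((Spec.map φ ≫ T.left.fromSpecResidueField t) ≫ T.hom) _ ↔ _
  suffices key : ∀ u, u = t → (Deg0 f ((Spec.map φ ≫ T.left.fromSpecResidueField t) ≫ T.hom)
      ((Scheme.Modules.pullback (PicF.XTmap f (tpt T (Spec.map φ ≫ T.left.fromSpecResidueField t)))).obj L) ↔
      Deg0 f (K := T.left.residueField u) (T.left.fromSpecResidueField u ≫ T.hom)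
        ((Scheme.Modules.pullback (PicF.XTmap f (tpt T (T.left.fromSpecResidueField u)))).obj L)) from key _ ht
  rintro u rfl
  have hr : Spec.map (CommRingCat.ofHom φ.hom) ≫ T.left.fromSpecResidueField u ≫ T.hom =
      (Spec.map φ ≫ T.left.fromSpecResidueField u) ≫ T.hom := (Category.assoc _ _ _).symm
  refine Iff.trans (deg0_congr f ?_) (deg0_extend f φ.hom _ _ hr (PicClLib.isInvertible_pullback _ hL))
  refine ((Scheme.Modules.pullbackCongr ?_).app L) ≪≫ ((Scheme.Modules.pullbackComp _ _).app L).symm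
  rw [← PicClLib.XTmap_comp]
  congr 1

theorem hasFibreDegreeZero_congr (T : Over S) {L L' : (PicF.XT f T).Modules} (e : L ≅ L')
    (h : FGA.HasFibreDegreeZero f T L) : FGA.HasFibreDegreeZero f T L' := fun t =>
  (eulerCharLE_iso ((Scheme.Modules.pullback _).mapIso e.symm) 1).trans (h t)

/-- Degree zero is inherited by base change and detected on a surjective family of field valued points. -/
theorem hasFibreDegreeZero_pullback {T T' : Over S} (m : T' ⟶ T) {L : (PicF.XT f T).Modules}
    (hL : PicF.IsInvertible L) (h : FGA.HasFibreDegreeZero f T L) :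
    FGA.HasFibreDegreeZero f T' ((Scheme.Modules.pullback (PicF.XTmap f m)).obj L) := fun t => by
  let s : Spec (CommRingCat.of (T'.left.residueField t)) ⟶ T'.left := T'.left.fromSpecResidueField t
  refine (deg_iff_deg0 f T' t (PicClLib.isInvertible_pullback _ hL)).2 ?_
  have h1 := (deg0_point f T hL (s ≫ m.left)).2 (h _)
  let i : fpt (s ≫ T'.hom) ≅ fpt ((s ≫ m.left) ≫ T.hom) :=
    Over.isoMk (Iso.refl _) (by simp [Over.w m])
  have hr : Spec.map (CommRingCat.ofHom (RingHom.id (T'.left.residueField t))) ≫ ((s ≫ m.left) ≫ T.hom) =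
      s ≫ T'.hom := by
    rw [CommRingCat.ofHom_id, Spec.map_id, Category.id_comp, Category.assoc, Over.w m]
  refine (deg0_congr f ?_).1 ((deg0_extend f _ _ _ hr (PicClLib.isInvertible_pullback _ hL)).2 h1)
  refine ((Scheme.Modules.pullbackComp _ _).app L) ≪≫ (Scheme.Modules.pullbackCongr ?_).app L ≪≫
    ((Scheme.Modules.pullbackComp _ _).app L).symm
  rw [← PicClLib.XTmap_comp, ← PicClLib.XTmap_comp]
  congr 1
  ext
  simp [s]

/-- The class level form of the pullback statement. -/
theorem hasFibreDegreeZeroCl_pull {T T' : Over S} (m : T' ⟶ T) {c : PicF.Cl (PicF.XT f T)}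
    (hc : PicF.IsInvertibleCl c) (h : FGA.HasFibreDegreeZeroCl f T c) :
    FGA.HasFibreDegreeZeroCl f T' (PicF.pullCl (PicF.XTmap f m) c) := by
  obtain ⟨L, hLc, hL⟩ := h
  obtain ⟨L', hL'c, hL'⟩ := hc
  obtain ⟨e⟩ := H23.PicMul.cl_eq_iff.1 (hLc.trans hL'c.symm)
  have := H23.PicMul.isInvertible_of_iso e.symm hL'
  exact ⟨_, by rw [← hLc]; rfl, hasFibreDegreeZero_pullback f m this hL⟩

/-- Degree zero may be tested after a surjective base change. -/
theorem hasFibreDegreeZeroCl_of_surjective {T T' : Over S} (m : T' ⟶ T) [Surjective m.left]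
    {c : PicF.Cl (PicF.XT f T)} (hc : PicF.IsInvertibleCl c)
    (h : FGA.HasFibreDegreeZeroCl f T' (PicF.pullCl (PicF.XTmap f m) c)) :
    FGA.HasFibreDegreeZeroCl f T c := by
  obtain ⟨L, rfl, hL⟩ := hc
  obtain ⟨L', hL'c, hL'⟩ := h
  obtain ⟨e⟩ := H23.PicMul.cl_eq_iff.1 hL'c
  have h' := hasFibreDegreeZero_congr f T' e hL'
  refine ⟨L, rfl, fun t => ?_⟩
  obtain ⟨t', ht⟩ := m.left.surjective t
  let s : Spec (CommRingCat.of (T'.left.residueField t')) ⟶ T'.left := T'.left.fromSpecResidueField t'
  have h1 := (deg_iff_deg0 f T' t' (PicClLib.isInvertible_pullback _ hL)).1 (h' t')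
  have hpt : (s ≫ m.left) (IsLocalRing.closedPoint _) = t := by
    rw [Scheme.Hom.comp_apply, ← ht]
    congr 1
    have : s (IsLocalRing.closedPoint (T'.left.residueField t')) ∈ Set.range (T'.left.fromSpecResidueField t') :=
      ⟨_, rfl⟩
    rwa [Scheme.range_fromSpecResidueField, Set.mem_singleton_iff] at this
  subst hpt
  refine (deg0_point f T hL (s ≫ m.left)).1 ?_
  have hr : Spec.map (CommRingCat.ofHom (RingHom.id (T'.left.residueField t'))) ≫ (s ≫ T'.hom) =
      (s ≫ m.left) ≫ T.hom := by
    rw [CommRingCat.ofHom_id, Spec.map_id, Category.id_comp, Category.assoc, Over.w m]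
  refine (deg0_congr f ?_).1 ((deg0_extend f _ _ _ hr (PicClLib.isInvertible_pullback _
    (PicClLib.isInvertible_pullback _ hL))).2 h1)
  refine ((Scheme.Modules.pullback _).mapIso ((Scheme.Modules.pullbackComp _ _).app L)) ≪≫
    ((Scheme.Modules.pullbackComp _ _).app L) ≪≫ (Scheme.Modules.pullbackCongr ?_).app L
  rw [← PicClLib.XTmap_comp, ← PicClLib.XTmap_comp]
  congr 1
  ext
  simp [s]

end Groth.Agent.JacTangent
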