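import Groth.Agent.JacTangent.Points
import Groth.Agent.CurveBC.Coh
import Groth.Agent.VarDim.Fibre
import Groth.Agent.SmoothReg.Scheme
import Groth.Agent.FibDim.BaseField
import Mathlib.AlgebraicGeometry.AlgClosed.Basic
import Mathlib.FieldTheory.IsAlgClosed.AlgebraicClosure

/-! The dimension of a smooth scheme with a universal rigidified class of degree zero. -/

universe u

open CategoryTheory CategoryTheory.Limits AlgebraicGeometry Opposite TopologicalSpace DualNumber

noncomputable section

set_option autoImplicit false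
set_option linter.style.haveILetI false
set_option linter.unusedSectionVars false
set_option maxHeartbeats 400000
set_option synthInstance.maxHeartbeats 100000
set_option backward.isDefEq.respectTransparency false
set_option backward.isDefEq.respectTransparency.types false

namespace Groth.Agent.JacTangent

open AModX PicH1 PicTangent

variable {k : Type u} [Field k] {C : Scheme.{u}} {f : C ⟶ Spec (CommRingCat.of k)}
  {σ : Spec (CommRingCat.of k) ⟶ C} {hσ : σ ≫ f = 𝟙 (Spec (CommRingCat.of k))}
  [QuasiCompact f] [QuasiSeparated f]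
  {K : Type u} [Field K] (g : Spec (CommRingCat.of K) ⟶ Spec (CommRingCat.of k))
  {J : Over (Spec (CommRingCat.of k))} (ξ : PicF.Rig f σ hσ J) (hξ : FGA.HasFibreDegreeZeroCl f J ξ.1)
  (huniv : ∀ (T : Over (Spec (CommRingCat.of k))) (c : PicF.Rig f σ hσ T), FGA.HasFibreDegreeZeroCl f T c.1 →
    ∃! a : T ⟶ J, PicF.pullCl (PicF.XTmap f a) ξ.1 = c.1)

theorem extSpec_self : extSpec (k := K) (K := K) = 𝟙 (Spec (CommRingCat.of K)) := Spec.map_id _

theorem red_thick (M : Type u) [AddCommGroup M] [Module K M] [Module Kᵐᵒᵖ M] [IsCentralScalar K M] :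
    redSpec (K := K) M ≫ thickSpec M = 𝟙 (Spec (CommRingCat.of K)) := by
  rw [← Spec.map_comp, ← CommRingCat.ofHom_comp,
    show (TrivSqZeroExt.fstHom K K M).toRingHom.comp (algebraMap K (TrivSqZeroExt K M)) = RingHom.id K from
      RingHom.ext fun c => rfl, CommRingCat.ofHom_id, Spec.map_id]

include hξ huniv in
/-- The cotangent space at a rational point of the base change. -/
theorem finrank_cotangent [LocallyOfFiniteType J.hom]
    [(pullback f g).Over (Spec (CommRingCat.of K))] (hq : pullback f g ↘ Spec (CommRingCat.of K) = pullback.snd f g)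
    (e : Spec (CommRingCat.of K) ⟶ pullback J.hom g) (he : e ≫ pullback.snd J.hom g = 𝟙 _) :
    Module.finrank (IsLocalRing.ResidueField ((pullback J.hom g).presheaf.stalk (ptOf e)))
        (IsLocalRing.CotangentSpace ((pullback J.hom g).presheaf.stalk (ptOf e))) =
      Module.finrank K (Coh.HH (pullback f g) (Coh.structureModule (pullback f g)) 1) := by
  letI := H23.PicMul.laws.{u}
  let s := pullback.snd J.hom g
  letI := stalkAlgebra s e
  let χ := evAlg s e he
  haveI : IsLocallyNoetherian (pullback J.hom g) := LocallyOfFiniteType.isLocallyNoetherian s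
  haveI : IsNoetherianRing ((pullback J.hom g).presheaf.stalk (ptOf e)) := inferInstance
  let h : tgt g K ⟶ J := Over.homMk (e ≫ pullback.fst J.hom g) (by
    show (e ≫ pullback.fst J.hom g) ≫ J.hom = algSpec (K := K) K ≫ g
    rw [Category.assoc, pullback.condition, ← Category.assoc, he,
      show algSpec (K := K) K = 𝟙 _ from Spec.map_id _])
  let lft : ∀ {A : Type u} [CommRing A] [Algebra K A], (tgt g A ⟶ J) → (Spec (CommRingCat.of A) ⟶ pullback J.hom g) :=
    fun {A} _ _ G => pullback.lift G.left (algSpec (K := K) A) (Over.w G)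
  have hover : ∀ {M : Type u} [AddCommGroup M] [Module K M] [Module Kᵐᵒᵖ M] [IsCentralScalar K M]
      (G : tgt g (TrivSqZeroExt K M) ⟶ J), tm g (TrivSqZeroExt.fstHom K K M) ≫ G = h →
      ∃ γ, morOf (K := K) e γ = lft G ∧ IsTan χ M γ := by
    intro M _ _ _ _ G hG
    have h₂ : redSpec M ≫ lft G = extSpec (k := K) ≫ e := by
      rw [extSpec_self, Category.id_comp]
      refine pullback.hom_ext ?_ ?_
      · rw [Category.assoc, pullback.lift_fst]
        exact congrArg CommaMorphism.left hG
      · rw [Category.assoc, pullback.lift_snd, he]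
        exact red_thick M
    obtain ⟨γ, hγ⟩ := exists_morOf e (lft G) h₂
    refine ⟨γ, hγ, (isTan_iff s e he γ).2 ⟨?_, hγ ▸ h₂⟩⟩
    rw [hγ, extSpec_self, Category.comp_id]
    exact pullback.lift_snd _ _ _
  have hcomp : ∀ {M N : Type u} [AddCommGroup M] [Module K M] [Module Kᵐᵒᵖ M] [IsCentralScalar K M]
      [AddCommGroup N] [Module K N] [Module Kᵐᵒᵖ N] [IsCentralScalar K N]
      (ψ : TrivSqZeroExt K M →ₐ[K] TrivSqZeroExt K N) (G : tgt g (TrivSqZeroExt K M) ⟶ J) γ γ',
      morOf (K := K) e γ = lft G → morOf (K := K) e γ' = lft (tm g ψ ≫ G) → ψ.toRingHom.comp γ = γ' := by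
    intro M N _ _ _ _ _ _ _ _ ψ G γ γ' h1 h2
    refine morOf_injective e ?_
    rw [← morOf_comp, h1, h2]
    refine pullback.hom_ext ?_ ?_
    · rw [Category.assoc, pullback.lift_fst, pullback.lift_fst]
      rfl
    · rw [Category.assoc, pullback.lift_snd, pullback.lift_snd, ← Spec.map_comp, ← CommRingCat.ofHom_comp,
        show ψ.toRingHom.comp (algebraMap K (TrivSqZeroExt K M)) = algebraMap K (TrivSqZeroExt K N) from
          ψ.comp_algebraMap]
  obtain ⟨R⟩ := PicH1.exists_res (prj (pullback.snd f g))
  let V := Coh.HH (pullback f g) (Coh.structureModule (pullback f g)) 1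
  have hex : ∀ x : V, ∃ γ, morOf (K := K) e γ = lft (tan g ξ hξ huniv h R x) ∧ IsTan χ K γ :=
    fun x => hover _ (tm_tan g ξ hξ huniv h R x)
  choose θ hθ hθT using hex
  refine finrank_cotangent_eq χ θ hθT (fun x y hxy => ?_) (fun γ hγ => ?_) (fun a x => ?_) (fun x y => ?_)
  · refine tan_injective g ξ hξ huniv h R (Over.OverMorphism.ext ?_)
    have := congrArg (· ≫ pullback.fst J.hom g) ((hθ x).symm.trans ((congrArg (morOf (K := K) e) hxy).trans (hθ y)))
    simpa only [lft, pullback.lift_fst] using this
  · obtain ⟨h1, h2⟩ := (isTan_iff s e he γ).1 hγ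
    rw [extSpec_self, Category.comp_id] at h1
    rw [extSpec_self, Category.id_comp] at h2
    let G : tgt g K[ε] ⟶ J := Over.homMk (morOf (K := K) e γ ≫ pullback.fst J.hom g) (by
      show (morOf (K := K) e γ ≫ pullback.fst J.hom g) ≫ J.hom = algSpec (K := K) K[ε] ≫ g
      rw [Category.assoc, pullback.condition, ← Category.assoc, h1])
    have hG : tm g (TrivSqZeroExt.fstHom K K K) ≫ G = h := by
      refine Over.OverMorphism.ext ?_
      show redSpec K ≫ morOf (K := K) e γ ≫ pullback.fst J.hom g = e ≫ pullback.fst J.hom g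
      rw [← Category.assoc, h2]
    obtain ⟨x, hx⟩ := exists_tan_eq g ξ hξ huniv h R G hG
    refine ⟨x, morOf_injective e ?_⟩
    rw [hθ x, hx]
    refine pullback.hom_ext ?_ ?_
    · exact pullback.lift_fst _ _ _
    · exact (pullback.lift_snd _ _ _).trans h1.symm
  · exact (hcomp _ (tan g ξ hξ huniv h R x) _ _ (hθ x)
      (by rw [tm_smul_tan g ξ hξ huniv hq h R a x]; exact hθ (a • x))).symm
  · obtain ⟨G, hG, h1, h2, h3⟩ := exists_add_tan g ξ hξ huniv h R x y
    obtain ⟨γ, hγ, hT⟩ := hover G hG
    exact ⟨γ, hT, hcomp _ G γ _ hγ (by rw [h1]; exact hθ x), hcomp _ G γ _ hγ (by rw [h2]; exact hθ y),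
      hcomp _ G γ _ hγ (by rw [h3]; exact hθ (x + y))⟩

include hξ huniv in
omit g in
theorem topologicalKrullDim_eq [Smooth J.hom] [C.Over (Spec (CommRingCat.of k))] (hf : C ↘ Spec (CommRingCat.of k) = f) :
    topologicalKrullDim J.left = (Module.finrank k (Coh.HH C (Coh.structureModule C) 1) : WithBot ℕ∞) := by
  let K := AlgebraicClosure k
  let g : Spec (CommRingCat.of K) ⟶ Spec (CommRingCat.of k) := extSpec (k := k)
  letI : (pullback f g).Over (Spec (CommRingCat.of K)) := ⟨pullback.snd f g⟩
  let n := Module.finrank k (Coh.HH C (Coh.structureModule C) 1)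
  have hV : Module.finrank K (Coh.HH (pullback f g) (Coh.structureModule (pullback f g)) 1) = n := by
    haveI : CompactSpace C := QuasiCompact.compactSpace_of_compactSpace f
    haveI : QuasiSeparatedSpace C := quasiSeparatedSpace_of_quasiSeparated f
    exact CurveBC.finrank_hh_unit k K (pullback.fst f g) (by rw [hf]; exact IsPullback.of_hasPullback f g) 1
  let s := pullback.snd J.hom g
  haveI : Smooth s := MorphismProperty.of_isPullback (IsPullback.of_hasPullback J.hom g) inferInstance
  haveI : Subsingleton (Spec (CommRingCat.of k)) := inferInstanceAs (Subsingleton (PrimeSpectrum k))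
  haveI : Subsingleton (Spec (CommRingCat.of K)) := inferInstanceAs (Subsingleton (PrimeSpectrum K))
  haveI : Nonempty (Spec (CommRingCat.of K)) := inferInstanceAs (Nonempty (PrimeSpectrum K))
  have hdimC : ∀ c : ↥(pullback J.hom g), IsClosed ({c} : Set ↥(pullback J.hom g)) →
      ringKrullDim ((pullback J.hom g).presheaf.stalk c) = n := by
    intro c hc
    have hec := finrank_cotangent g ξ hξ huniv rfl (pointOfClosedPoint s c hc) (pointOfClosedPoint_comp s c hc)
    have hpt : ptOf (pointOfClosedPoint s c hc) = c := pointOfClosedPoint_apply s c hc _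
    rw [hV] at hec
    generalize hd : ptOf (pointOfClosedPoint s c hc) = d at hec
    obtain rfl : d = c := hd.symm.trans hpt
    haveI : IsLocallyNoetherian (pullback J.hom g) := LocallyOfFiniteType.isLocallyNoetherian s
    haveI := SmoothReg.isRegularLocalRing_stalk_of_mem_smoothLocus s (x := d)
      (by rw [s.smoothLocus_eq_top]; trivial)
    rw [← IsRegularLocalRing.spanFinrank_maximalIdeal,
      IsLocalRing.spanFinrank_maximalIdeal_eq_finrank_cotangentSpace]
    exact_mod_cast hec
  have hne : Nonempty ↥(pullback J.hom g) := by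
    let T₀ : Over (Spec (CommRingCat.of k)) := Over.mk (𝟙 _)
    obtain ⟨a, -, -⟩ := huniv T₀ ⟨PicF.cl (Coh.structureModule _), PicTangent.isInvertibleCl_one _,
      PicTangent.pullCl_one _⟩ ⟨_, rfl, fun t => eulerCharLE_iso (CurveBC.unitIso _) 1⟩
    exact ⟨pullback.lift (g ≫ a.left) (𝟙 _) (by
      rw [Category.assoc, Over.w a]; simp [T₀]) (IsLocalRing.closedPoint K)⟩
  have hJ : topologicalKrullDim ↥(pullback J.hom g) = topologicalKrullDim J.left :=
    FibDim.topologicalKrullDim_baseChange (IsPullback.of_hasPullback J.hom g)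
  rw [← hJ, VarDim.topologicalKrullDim_eq_iSup_deg s]
  refine le_antisymm (iSup_le fun x => ?_) ?_
  · obtain ⟨c, hxc, hc⟩ := VarDim.exists_closed_specialization s x
    obtain ⟨b, hb, -, hmax⟩ := VarDim.exists_deg_add_stalk s c
    have h := hmax x hxc
    rw [(VarDim.closedPoint_iff_deg_eq_zero s c).1 hc, zero_add] at h
    obtain rfl : b = n := by exact_mod_cast hb.symm.trans (hdimC c hc)
    exact_mod_cast h
  · obtain ⟨x⟩ := hne
    obtain ⟨c, -, hc⟩ := VarDim.exists_closed_specialization s x
    obtain ⟨b, hb, ⟨η, -, hη⟩, -⟩ := VarDim.exists_deg_add_stalk s c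
    rw [(VarDim.closedPoint_iff_deg_eq_zero s c).1 hc, zero_add] at hη
    obtain rfl : b = n := by exact_mod_cast hb.symm.trans (hdimC c hc)
    exact le_iSup_of_le η (by rw [hη]; exact_mod_cast le_rfl)

end Groth.Agent.JacTangent
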