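import Groth.Agent.JacTangent.FibreDeg
import Groth.Agent.PicTangent.Points
import Groth.Agent.PicTangent.Local

/-! Tangent vectors of a scheme with a universal rigidified class of degree zero. -/

universe u

open CategoryTheory CategoryTheory.Limits AlgebraicGeometry Opposite TopologicalSpace DualNumber

noncomputable section

set_option autoImplicit false
set_option linter.style.haveILetI false
set_option linter.unusedSimpArgs false
set_option linter.unusedSectionVars false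
set_option maxHeartbeats 400000
set_option synthInstance.maxHeartbeats 100000
set_option backward.isDefEq.respectTransparency false
set_option backward.isDefEq.respectTransparency.types false

namespace Groth.Agent.JacTangent

open AModX PicH1 PicTangent

theorem subsingleton_spec_trivSq {K : Type u} [Field K] (M : Type u) [AddCommGroup M] [Module K M]
    [Module Kᵐᵒᵖ M] [IsCentralScalar K M] : Subsingleton ↥(Spec (CommRingCat.of (TrivSqZeroExt K M))) :=
  H23.MulTangent.subsingleton_spec (K := K) M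

/-- On a scheme with at most one point every invertible class is trivial. -/
theorem isTrivialCl_of_subsingleton {Z : Scheme.{u}} [Subsingleton Z] [Nonempty Z] {c : PicF.Cl Z}
    (hc : PicF.IsInvertibleCl c) : PicF.IsTrivialCl c := by
  obtain ⟨L, rfl, hL⟩ := hc
  obtain ⟨U, hU, ⟨e⟩⟩ := hL (Classical.arbitrary Z)
  obtain rfl : U = ⊤ := top_unique fun y _ => (Subsingleton.elim (Classical.arbitrary Z) y) ▸ hU
  have h1 : PicF.pullCl (⊤ : Z.Opens).ι (PicF.cl L) = PicF.cl (Coh.structureModule _) :=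
    Quot.sound ⟨((Scheme.Modules.restrictFunctorIsoPullback (⊤ : Z.Opens).ι).app L).symm ≪≫ e⟩
  have h2 := congrArg (PicF.pullCl Z.topIso.inv) h1
  rw [PicClLib.pullCl_comp, show Z.topIso.inv ≫ (⊤ : Z.Opens).ι = 𝟙 Z from Z.topIso.inv_hom_id, PicClLib.pullCl_id,
    PicTangent.pullCl_one] at h2
  exact h2

variable {k : Type u} [Field k] {C : Scheme.{u}} {f : C ⟶ Spec (CommRingCat.of k)}
  {σ : Spec (CommRingCat.of k) ⟶ C} {hσ : σ ≫ f = 𝟙 (Spec (CommRingCat.of k))}
  {K : Type u} [Field K] (g : Spec (CommRingCat.of K) ⟶ Spec (CommRingCat.of k))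

/-- An algebra over the extension, over the base field. -/
abbrev tgt (A : Type u) [CommRing A] [Algebra K A] : Over (Spec (CommRingCat.of k)) := Over.mk (algSpec (K := K) A ≫ g)

/-- The morphism of a map of algebras. -/
def tm {A A' : Type u} [CommRing A] [Algebra K A] [CommRing A'] [Algebra K A'] (ψ : A →ₐ[K] A') :
    tgt g A' ⟶ tgt g A :=
  Over.homMk (Spec.map (CommRingCat.ofHom ψ.toRingHom))
    (show Spec.map (CommRingCat.ofHom ψ.toRingHom) ≫ algSpec A ≫ g = algSpec A' ≫ g by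
      rw [← Category.assoc, ← Spec.map_comp, ← CommRingCat.ofHom_comp,
        show ψ.toRingHom.comp (algebraMap K A) = algebraMap K A' from ψ.comp_algebraMap])

variable (f)

/-- The two descriptions of the base change of the curve. -/
abbrev cmp (A : Type u) [CommRing A] [Algebra K A] : bc (pullback.snd f g) A ≅ PicF.XT f (tgt g A) :=
  pullbackLeftPullbackSndIso f g (algSpec A)

theorem bcMap_cmp {A A' : Type u} [CommRing A] [Algebra K A] [CommRing A'] [Algebra K A'] (ψ : A →ₐ[K] A') :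
    bcMap (pullback.snd f g) ψ ≫ (cmp f g A).hom = (cmp f g A').hom ≫ PicF.XTmap f (tm g ψ) := by
  refine pullback.hom_ext ?_ ?_
  · simp [bcMap, PicF.XTmap, pullbackLeftPullbackSndIso_hom_fst]
  · simp [bcMap, PicF.XTmap, tm, pullbackLeftPullbackSndIso_hom_snd, pullbackLeftPullbackSndIso_hom_snd_assoc]

theorem bcMap_comp {A A' A'' : Type u} [CommRing A] [Algebra K A] [CommRing A'] [Algebra K A'] [CommRing A'']
    [Algebra K A''] {Y : Scheme.{u}} (q : Y ⟶ Spec (CommRingCat.of K)) (φ : A →ₐ[K] A') (ψ : A' →ₐ[K] A'') :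
    bcMap q ψ ≫ bcMap q φ = bcMap q (ψ.comp φ) := by
  refine pullback.hom_ext ?_ ?_
  · rw [Category.assoc, bcMap_fst, bcMap_fst, bcMap_fst]
  · simp only [bcMap, Category.assoc, pullback.lift_snd, pullback.lift_snd_assoc]
    rw [← Spec.map_comp, ← CommRingCat.ofHom_comp]
    rfl

theorem bcMap_id (A : Type u) [CommRing A] [Algebra K A] {Y : Scheme.{u}} (q : Y ⟶ Spec (CommRingCat.of K)) :
    bcMap q (AlgHom.id K A) = 𝟙 _ := by
  refine pullback.hom_ext ?_ ?_
  · rw [bcMap_fst, Category.id_comp]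
  · simp only [bcMap, pullback.lift_snd, Category.id_comp]
    rw [show CommRingCat.ofHom (AlgHom.id K A).toRingHom = 𝟙 (CommRingCat.of A) from rfl, Spec.map_id,
      Category.comp_id]

theorem fst_comp_ofId (M : Type u) [AddCommGroup M] [Module K M] [Module Kᵐᵒᵖ M] [IsCentralScalar K M] :
    (TrivSqZeroExt.fstHom K K M).comp (Algebra.ofId K (TrivSqZeroExt K M)) = AlgHom.id K K :=
  Subsingleton.elim _ _

variable {f} {J : Over (Spec (CommRingCat.of k))} (ξ : PicF.Rig f σ hσ J)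

/-- The class of a point of the scheme. -/
def clsOf {A : Type u} [CommRing A] [Algebra K A] (G : tgt g A ⟶ J) : PicLoc.PicSet (bc (pullback.snd f g) A) :=
  ⟨PicF.pullCl (cmp f g A).hom (PicF.pullCl (PicF.XTmap f G) ξ.1),
    PicLoc.isInvertibleCl_pullCl _ (PicLoc.isInvertibleCl_pullCl _ ξ.2.1)⟩

theorem clsOf_tm [PicGrp.Laws.{u}] {A A' : Type u} [CommRing A] [Algebra K A] [CommRing A'] [Algebra K A'] (ψ : A →ₐ[K] A')
    (G : tgt g A ⟶ J) :
    clsOf g ξ (tm g ψ ≫ G) =
      PicGrp.pullHom (bcMap (pullback.snd f g) ψ) (PicGrp.Laws.pullMul _) (clsOf g ξ G) := by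
  refine Subtype.ext ?_
  show PicF.pullCl (cmp f g A').hom (PicF.pullCl (PicF.XTmap f (tm g ψ ≫ G)) ξ.1) =
    PicF.pullCl (bcMap (pullback.snd f g) ψ) (PicF.pullCl (cmp f g A).hom (PicF.pullCl (PicF.XTmap f G) ξ.1))
  rw [PicClLib.XTmap_comp, PicClLib.pullCl_comp, PicClLib.pullCl_comp, PicClLib.pullCl_comp, bcMap_cmp,
    Category.assoc]

theorem rigidified_pull {T T' : Over (Spec (CommRingCat.of k))} (m : T' ⟶ T) {c : PicF.Cl (PicF.XT f T)}
    (hc : PicF.IsTrivialCl (PicF.pullCl (PicF.secT f σ hσ T) c)) :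
    PicF.IsTrivialCl (PicF.pullCl (PicF.secT f σ hσ T') (PicF.pullCl (PicF.XTmap f m) c)) := by
  have h : PicF.secT f σ hσ T' ≫ PicF.XTmap f m = m.left ≫ PicF.secT f σ hσ T := by
    refine pullback.hom_ext ?_ ?_
    · simp [PicF.secT, PicF.XTmap]
    · simp [PicF.secT, PicF.XTmap]
      exact Category.id_comp _
  unfold PicF.IsTrivialCl at hc ⊢
  rw [PicClLib.pullCl_comp, h, ← PicClLib.pullCl_comp, hc, PicTangent.pullCl_one]

variable (hξ : FGA.HasFibreDegreeZeroCl f J ξ.1)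
  (huniv : ∀ (T : Over (Spec (CommRingCat.of k))) (c : PicF.Rig f σ hσ T), FGA.HasFibreDegreeZeroCl f T c.1 →
    ∃! a : T ⟶ J, PicF.pullCl (PicF.XTmap f a) ξ.1 = c.1)
  [QuasiCompact f] [QuasiSeparated f]

include hξ huniv

theorem clsOf_injective {A : Type u} [CommRing A] [Algebra K A] {G G' : tgt g A ⟶ J}
    (h : clsOf g ξ G = clsOf g ξ G') : G = G' := by
  have h' := congrArg (fun z : PicLoc.PicSet _ => PicF.pullCl (cmp f g A).inv z.1) h
  simp only [clsOf, PicClLib.pullCl_comp, Iso.inv_hom_id, PicClLib.pullCl_id] at h'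
  rw [show (cmp f g A).inv ≫ (cmp f g A).hom ≫ PicF.XTmap f G = PicF.XTmap f G by simp,
    show (cmp f g A).inv ≫ (cmp f g A).hom ≫ PicF.XTmap f G' = PicF.XTmap f G' by simp] at h'
  exact (huniv (tgt g A) ⟨_, PicLoc.isInvertibleCl_pullCl _ ξ.2.1, rigidified_pull G ξ.2.2⟩
    (hasFibreDegreeZeroCl_pull f G ξ.2.1 hξ)).unique rfl h'.symm

theorem exists_pt [PicGrp.Laws.{u}] (h : tgt g K ⟶ J) {M : Type u} [AddCommGroup M] [Module K M] [Module Kᵐᵒᵖ M]
    [IsCentralScalar K M] (c : PicLoc.PicSet (bc (pullback.snd f g) (TrivSqZeroExt K M)))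
    (hc : PicGrp.pullHom (bcMap (pullback.snd f g) (TrivSqZeroExt.fstHom K K M)) (PicGrp.Laws.pullMul _) c =
      clsOf g ξ h) :
    ∃ G : tgt g (TrivSqZeroExt K M) ⟶ J, clsOf g ξ G = c ∧ tm g (TrivSqZeroExt.fstHom K K M) ≫ G = h := by
  let A := TrivSqZeroExt K M
  haveI : Subsingleton ↥(tgt g A).left := subsingleton_spec_trivSq M
  haveI : Nonempty ↥(tgt g A).left :=
    ⟨Spec.map (CommRingCat.ofHom (TrivSqZeroExt.fstHom K K M).toRingHom) (IsLocalRing.closedPoint K)⟩
  haveI : Surjective (tm g (TrivSqZeroExt.fstHom K K M)).left := ⟨fun y =>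
    ⟨IsLocalRing.closedPoint K, Subsingleton.elim (α := ↥(tgt g A).left) _ _⟩⟩
  let c' := PicF.pullCl (cmp f g A).inv c.1
  have hinv : PicF.IsInvertibleCl c' := PicLoc.isInvertibleCl_pullCl _ c.2
  have hdeg : FGA.HasFibreDegreeZeroCl f (tgt g A) c' := by
    refine hasFibreDegreeZeroCl_of_surjective f (tm g (TrivSqZeroExt.fstHom K K M)) hinv ?_
    have h1 := congrArg (fun z : PicLoc.PicSet _ => PicF.pullCl (cmp f g K).inv z.1) hc
    have h2 : PicF.pullCl (PicF.XTmap f (tm g (TrivSqZeroExt.fstHom K K M))) c' =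
        PicF.pullCl (PicF.XTmap f h) ξ.1 := by
      refine Eq.trans ?_ (h1.trans ?_)
      · show _ = PicF.pullCl (cmp f g K).inv (PicF.pullCl (bcMap (pullback.snd f g) (TrivSqZeroExt.fstHom K K M)) c.1)
        rw [PicClLib.pullCl_comp, PicClLib.pullCl_comp]
        congr 1
        exact (Iso.eq_inv_comp _).2 ((Category.assoc _ _ _).symm.trans ((Iso.comp_inv_eq _).2 (bcMap_cmp f g _).symm))
      · show PicF.pullCl (cmp f g K).inv (PicF.pullCl (cmp f g K).hom _) = _
        rw [PicClLib.pullCl_comp, Iso.inv_hom_id, PicClLib.pullCl_id]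
    rw [h2]
    exact hasFibreDegreeZeroCl_pull f h ξ.2.1 hξ
  obtain ⟨G, hG, -⟩ := huniv (tgt g A) ⟨c', hinv, isTrivialCl_of_subsingleton (PicLoc.isInvertibleCl_pullCl _ hinv)⟩ hdeg
  have hGc : clsOf g ξ G = c := by
    refine Subtype.ext ?_
    show PicF.pullCl (cmp f g A).hom (PicF.pullCl (PicF.XTmap f G) ξ.1) = c.1
    rw [hG]
    show PicF.pullCl (cmp f g A).hom (PicF.pullCl (cmp f g A).inv c.1) = c.1
    rw [PicClLib.pullCl_comp, Iso.hom_inv_id, PicClLib.pullCl_id]
  exact ⟨G, hGc, clsOf_injective g ξ hξ huniv (by rw [clsOf_tm, hGc, hc])⟩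

variable [PicGrp.Laws.{u}]

omit hξ huniv in
/-- The class of the point, extended constantly. -/
abbrev base (h : tgt g K ⟶ J) (M : Type u) [AddCommGroup M] [Module K M] [Module Kᵐᵒᵖ M] [IsCentralScalar K M] :
    PicLoc.PicSet (bc (pullback.snd f g) (TrivSqZeroExt K M)) :=
  PicGrp.pullHom (bcMap (pullback.snd f g) (Algebra.ofId K (TrivSqZeroExt K M))) (PicGrp.Laws.pullMul _)
    (clsOf g ξ h)

omit hξ huniv in
theorem pull_base {M N : Type u} [AddCommGroup M] [Module K M] [Module Kᵐᵒᵖ M] [IsCentralScalar K M]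
    [AddCommGroup N] [Module K N] [Module Kᵐᵒᵖ N] [IsCentralScalar K N]
    (h : tgt g K ⟶ J) (ψ : TrivSqZeroExt K M →ₐ[K] TrivSqZeroExt K N) :
    PicGrp.pullHom (bcMap (pullback.snd f g) ψ) (PicGrp.Laws.pullMul _) (base g ξ h M) = base g ξ h N := by
  refine Subtype.ext ?_
  show PicF.pullCl _ (PicF.pullCl _ _) = PicF.pullCl _ _
  rw [PicClLib.pullCl_comp, bcMap_comp]
  rw [show ψ.comp (Algebra.ofId K _) = Algebra.ofId K _ from Subsingleton.elim _ _]

omit hξ huniv in
theorem fst_base (h : tgt g K ⟶ J) (M : Type u) [AddCommGroup M] [Module K M] [Module Kᵐᵒᵖ M] [IsCentralScalar K M] :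
    PicGrp.pullHom (bcMap (pullback.snd f g) (TrivSqZeroExt.fstHom K K M)) (PicGrp.Laws.pullMul _)
      (base g ξ h M) = clsOf g ξ h := by
  refine Subtype.ext ?_
  show PicF.pullCl _ (PicF.pullCl _ _) = _
  rw [PicClLib.pullCl_comp, bcMap_comp, fst_comp_ofId, bcMap_id, PicClLib.pullCl_id]

omit hξ huniv in
theorem fst_epsCls {Y : Scheme.{u}} (q : Y ⟶ Spec (CommRingCat.of K)) (R : Res (prj q)) (x : CohTop.H (oSh Y) 1) :
    PicGrp.pullHom (bcMap q (TrivSqZeroExt.fstHom K K K)) (PicGrp.Laws.pullMul _)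
      (Additive.toMul (epsCls q R x)) = 1 := by
  have h1 := congrArg Subtype.val (pullHom_incl_epsCls q R (PicGrp.Laws.pullMul _) x)
  rw [PicGrp.one_val] at h1
  refine Subtype.ext ?_
  rw [PicGrp.one_val]
  show PicF.pullCl (bcMap q (TrivSqZeroExt.fstHom K K K))
    (Additive.toMul (epsCls q R x) : PicLoc.PicSet (bc q K[ε])).1 = _
  rw [← incl_eq]
  exact (PicLoc.pullCl_comp _ _ _).trans ((congrArg _ h1).trans (PicTangent.pullCl_one _))

theorem exists_tan (h : tgt g K ⟶ J) (R : Res (prj (pullback.snd f g))) (x : CohTop.H (oSh (pullback f g)) 1) :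
    ∃ G : tgt g K[ε] ⟶ J, clsOf g ξ G = Additive.toMul (epsCls _ R x) * base g ξ h K ∧
      tm g (TrivSqZeroExt.fstHom K K K) ≫ G = h := by
  refine exists_pt g ξ hξ huniv h _ ?_
  rw [map_mul, fst_epsCls, fst_base, one_mul]

/-- The tangent vector of a class. -/
def tan (h : tgt g K ⟶ J) (R : Res (prj (pullback.snd f g))) (x : CohTop.H (oSh (pullback f g)) 1) :
    tgt g K[ε] ⟶ J := (exists_tan g ξ hξ huniv h R x).choose

theorem clsOf_tan (h : tgt g K ⟶ J) (R : Res (prj (pullback.snd f g))) (x : CohTop.H (oSh (pullback f g)) 1) :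
    clsOf g ξ (tan g ξ hξ huniv h R x) = Additive.toMul (epsCls _ R x) * base g ξ h K :=
  (exists_tan g ξ hξ huniv h R x).choose_spec.1

theorem tm_tan (h : tgt g K ⟶ J) (R : Res (prj (pullback.snd f g))) (x : CohTop.H (oSh (pullback f g)) 1) :
    tm g (TrivSqZeroExt.fstHom K K K) ≫ tan g ξ hξ huniv h R x = h :=
  (exists_tan g ξ hξ huniv h R x).choose_spec.2

theorem tan_injective (h : tgt g K ⟶ J) (R : Res (prj (pullback.snd f g))) :
    Function.Injective (tan g ξ hξ huniv h R) := fun x y e => by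
  have := congrArg (clsOf g ξ) e
  rw [clsOf_tan, clsOf_tan, mul_right_cancel_iff] at this
  exact epsCls_injective _ R (Additive.toMul.injective this)

theorem exists_tan_eq (h : tgt g K ⟶ J) (R : Res (prj (pullback.snd f g))) (G : tgt g K[ε] ⟶ J)
    (hG : tm g (TrivSqZeroExt.fstHom K K K) ≫ G = h) : ∃ x, tan g ξ hξ huniv h R x = G := by
  let q := pullback.snd f g
  let c : PicLoc.PicSet (bc q K[ε]) := clsOf g ξ G * (base g ξ h K)⁻¹
  have hc : PicGrp.pullHom (bcMap q (TrivSqZeroExt.fstHom K K K)) (PicGrp.Laws.pullMul _) c = 1 := by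
    rw [map_mul, map_inv, fst_base, ← clsOf_tm, hG, mul_inv_cancel]
  have hc' : PicGrp.pullHom (incl q) (PicGrp.Laws.pullMul _) c = 1 := by
    refine Subtype.ext ?_
    rw [PicGrp.one_val]
    show PicF.pullCl (incl q) c.1 = _
    have h1 := congrArg Subtype.val hc
    rw [PicGrp.one_val] at h1
    let j : pullback f g ⟶ bc q K := pullback.lift (𝟙 _) q (by
      rw [Category.id_comp, show algSpec (K := K) K = 𝟙 _ from Spec.map_id _, Category.comp_id])
    have hj : j ≫ bcMap q (TrivSqZeroExt.fstHom K K K) = incl q := by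
      rw [← incl_eq, ← Category.assoc, show j ≫ pullback.fst q (algSpec (K := K) K) = 𝟙 _ from pullback.lift_fst _ _ _,
        Category.id_comp]
    rw [← hj, ← PicClLib.pullCl_comp]
    exact (congrArg (PicF.pullCl j) h1).trans (PicTangent.pullCl_one _)
  obtain ⟨x, hx⟩ := exists_epsCls q R (PicGrp.Laws.pullMul _) c hc'
  refine ⟨x, clsOf_injective g ξ hξ huniv ?_⟩
  rw [clsOf_tan, hx, toMul_ofMul]
  show c * base g ξ h K = _
  rw [mul_assoc, inv_mul_cancel, mul_one]

theorem tm_smul_tan [(pullback f g).Over (Spec (CommRingCat.of K))]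
    (hq : pullback f g ↘ Spec (CommRingCat.of K) = pullback.snd f g) (h : tgt g K ⟶ J)
    (R : Res (prj (pullback.snd f g))) (a : K) (x : Coh.HH (pullback f g) (Coh.structureModule (pullback f g)) 1) :
    tm g (TrivSqZeroExt.map (a • LinearMap.id : K →ₗ[K] K)) ≫ tan g ξ hξ huniv h R x =
      tan g ξ hξ huniv h R (a • x) := by
  let q := pullback.snd f g
  let ψ : K[ε] →ₐ[K] K[ε] := TrivSqZeroExt.map (a • LinearMap.id : K →ₗ[K] K)
  have hψ : ψ (ε : K[ε]) = algebraMap K K[ε] a * ε := by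
    show TrivSqZeroExt.map _ (TrivSqZeroExt.inr 1) = _
    rw [TrivSqZeroExt.map_inr, TrivSqZeroExt.algebraMap_eq_inl, DualNumber.eps, TrivSqZeroExt.inl_mul_inr]
    simp
  have hsq : gfun q K[ε] (ψ ε) * gfun q K[ε] (ψ ε) = 0 :=
    gfun_mul_self q (by rw [← map_mul, DualNumber.eps_mul_eps, map_zero])
  have h1 := cls_pullback (prj q) (epsFun_sq q) (bcMap_fst q ψ) R R (PicGrp.Laws.pullMul _) hsq
    (gfun_bcMap q ψ ε) x
  have h2 : epsCls q R (Coh.toGlobal q a • x) = cls (prj q) hsq R x :=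
    cls_smul (prj q) (epsFun_sq q) R (Coh.toGlobal q a) hsq (by rw [hψ, map_mul, gfun_algebraMap]) x
  refine clsOf_injective g ξ hξ huniv ?_
  rw [clsOf_tm, clsOf_tan, clsOf_tan, map_mul, pull_base]
  congr 1
  have h3 : (a • x : Coh.HH (pullback f g) (Coh.structureModule (pullback f g)) 1) = Coh.toGlobal q a • x := by
    show a • x = Coh.toGlobal (pullback.snd f g) a • x
    rw [← hq]; rfl
  rw [h3, h2, h1]
  rfl

theorem exists_add_tan (h : tgt g K ⟶ J) (R : Res (prj (pullback.snd f g)))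
    (x₁ x₂ : CohTop.H (oSh (pullback f g)) 1) :
    ∃ G : tgt g (TrivSqZeroExt K (K × K)) ⟶ J,
      tm g (TrivSqZeroExt.fstHom K K (K × K)) ≫ G = h ∧
      tm g (TrivSqZeroExt.map (LinearMap.fst K K K)) ≫ G = tan g ξ hξ huniv h R x₁ ∧
      tm g (TrivSqZeroExt.map (LinearMap.snd K K K)) ≫ G = tan g ξ hξ huniv h R x₂ ∧
      tm g (TrivSqZeroExt.map (LinearMap.fst K K K + LinearMap.snd K K K)) ≫ G =
        tan g ξ hξ huniv h R (x₁ + x₂) := by
  let q := pullback.snd f g
  let A := TrivSqZeroExt K (K × K)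
  obtain ⟨R₂⟩ := exists_res (pullback.fst q (algSpec (K := K) A))
  obtain ⟨R₀⟩ := exists_res (pullback.fst q (algSpec (K := K) K))
  have ht : ∀ m : K × K, gfun q A (TrivSqZeroExt.inr m) * gfun q A (TrivSqZeroExt.inr m) = 0 := fun m =>
    gfun_mul_self q (TrivSqZeroExt.inr_mul_inr _ _ _)
  let c : PicLoc.PicSet (bc q A) :=
    Additive.toMul (cls _ (ht (1, 0)) R₂ x₁ + cls _ (ht (0, 1)) R₂ x₂)
  have key : ∀ {A' : Type u} [CommRing A'] [Algebra K A'] (ψ : A →ₐ[K] A')
      (R' : Res (pullback.fst q (algSpec (K := K) A')))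
      {a b : Γ(bc q A', ⊤)} (ha : a * a = 0) (hb : b * b = 0),
      gfun q A' (ψ (TrivSqZeroExt.inr (1, 0))) = a → gfun q A' (ψ (TrivSqZeroExt.inr (0, 1))) = b →
      PicGrp.pullHom (bcMap q ψ) (PicGrp.Laws.pullMul _) c =
        (Additive.toMul (cls _ ha R' x₁ + cls _ hb R' x₂) : PicLoc.PicSet (bc q A')) := by
    intro A' _ _ ψ R' a b ha hb haa hbb
    have h1 := cls_pullback _ (ht (1, 0)) (bcMap_fst q ψ) R₂ R' (PicGrp.Laws.pullMul _) ha
      ((gfun_bcMap q ψ _).trans haa) x₁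
    have h2 := cls_pullback _ (ht (0, 1)) (bcMap_fst q ψ) R₂ R' (PicGrp.Laws.pullMul _) hb
      ((gfun_bcMap q ψ _).trans hbb) x₂
    rw [h1, h2]
    exact map_mul (PicGrp.pullHom (bcMap q ψ) (PicGrp.Laws.pullMul _)) _ _
  have heps : ∀ l : K × K →ₗ[K] K, ∀ m, gfun q K[ε] (TrivSqZeroExt.map l (TrivSqZeroExt.inr m)) =
      gfun q K[ε] (TrivSqZeroExt.inr (l m)) := fun l m => by rw [TrivSqZeroExt.map_inr]
  have h0 : gfun q K[ε] (TrivSqZeroExt.inr 0) = 0 := by rw [TrivSqZeroExt.inr_zero, map_zero]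
  obtain ⟨G, hG, hGh⟩ := exists_pt g ξ hξ huniv h (c * base g ξ h (K × K)) (by
    rw [map_mul, fst_base, key (TrivSqZeroExt.fstHom K K (K × K)) R₀ (mul_zero 0) (mul_zero 0)
      ((congrArg _ (show TrivSqZeroExt.fstHom K K (K × K) (TrivSqZeroExt.inr (1, 0)) = 0 from rfl)).trans (map_zero _))
      ((congrArg _ (show TrivSqZeroExt.fstHom K K (K × K) (TrivSqZeroExt.inr (0, 1)) = 0 from rfl)).trans (map_zero _)),
      cls_zero, cls_zero, add_zero]
    exact one_mul _)
  refine ⟨G, hGh, ?_, ?_, ?_⟩ <;> refine clsOf_injective g ξ hξ huniv ?_ <;>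
    rw [clsOf_tm, clsOf_tan, hG, map_mul, pull_base] <;> congr 1
  · rw [key (TrivSqZeroExt.map (LinearMap.fst K K K)) R (epsFun_sq q) (mul_zero 0)
      ((heps _ _).trans rfl) ((heps _ _).trans h0), cls_zero, add_zero]
  · rw [key (TrivSqZeroExt.map (LinearMap.snd K K K)) R (mul_zero 0) (epsFun_sq q)
      ((heps _ _).trans h0) ((heps _ _).trans rfl), cls_zero, zero_add]
  · rw [key (TrivSqZeroExt.map (LinearMap.fst K K K + LinearMap.snd K K K)) R (epsFun_sq q) (epsFun_sq q)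
      ((heps _ _).trans (by simp)) ((heps _ _).trans (by simp))]
    exact congrArg Additive.toMul (map_add (epsCls q R) x₁ x₂).symm

end Groth.Agent.JacTangent
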